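import Cfsg.Agent.H636.Gow.Defs
import Cfsg.Agent.H707.Rank
import Cfsg.Agent.H707.Block

/-!
# Parity tools for S4913

`ψ` is a rational-valued generalized character of odd degree, `[ψ, 1] = 0`.

* `exists_odd_supp` : the set `S` of the odd-degree irreducible characters with odd multiplicity in `ψ` has odd size,
  is stable under all automorphisms of `ℂ`, and has at most `[ψ, ψ]` elements;
* `ratOdd_of_norm_le_two` : `[ψ, ψ] ≤ 2` gives `RatOdd G`;
* `ratOdd_of_norm_three` : `[ψ, ψ] = 3` and a rational-valued generalized character `Θ` with `3 ∤ [ψ, Θ]`;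
* `ratOdd_of_pow` : the characters in `S` are fixed by the power maps of odd order;
* `ratOdd_of_isConj` : `|G|` even and `x ^ k` conjugate to `x` for all `k` of odd order modulo `|G|`;
* `ratOdd_of_rank_three`, `ratOdd_of_rank_four`, `ratOdd_rank_three`, `ratOdd_of_cover` : permutation characters of
  even degree and small rank.
-/

set_option autoImplicit false

namespace Cfsg.Agent.H636.Gow

open Cfsg Cfsg.Agent.Characters.Core Cfsg.Agent.Characters Cfsg.Agent.H707.OddLift Cfsg.Agent.H707.Orbits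
  Cfsg.Agent.H707.Norm MulAction
open scoped ComplexConjugate

attribute [local instance] irrAction

universe u

section Fixed

variable {G : Type u} [Group G] [Finite G]

/-- the degree is odd -/
def OddDeg {G : Type*} [Group G] (χ : G → ℂ) : Prop := ∃ d : ℕ, Odd d ∧ χ 1 = d

/-- An irreducible character of odd degree fixed by all automorphisms of `ℂ`. -/
theorem ratOdd_of_fixed {χ : IrrCharacter G} (h1 : (χ : G → ℂ) ≠ 1) (hd : OddDeg (χ : G → ℂ))
    (hfix : ∀ σ : ℂ ≃+* ℂ, σ • χ = χ) : RatOdd G := by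
  refine ⟨χ, χ.2, h1, hd, fun g => ?_⟩
  apply GaloisBasic.exists_rat_of_forall_ringEquiv
  · exact (GaloisBasic.isIntegral_apply (isIrr_isCharacter χ.2) g).tower_top
  · intro σ
    exact congrFun (congrArg Subtype.val (hfix σ)) g

/-- An irreducible character of odd degree fixed by all power maps prime to the order. -/
theorem ratOdd_of_pow_fixed {χ : IrrCharacter G} (h1 : (χ : G → ℂ) ≠ 1) (hd : OddDeg (χ : G → ℂ))
    (hfix : ∀ m : ℕ, m.Coprime (Nat.card G) → ∀ g : G, (χ : G → ℂ) (g ^ m) = (χ : G → ℂ) g) : RatOdd G := by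
  refine ⟨χ, χ.2, h1, hd, fun g => ?_⟩
  rw [GaloisBasic.exists_rat_iff (isIrr_isCharacter χ.2) g]
  exact fun m hm => hfix m hm g

end Fixed

theorem odd_int_sum {ι : Type*} (s : Finset ι) (f : ι → ℤ) :
    Odd (∑ i ∈ s, f i) ↔ Odd (s.filter fun i => Odd (f i)).card := by
  classical
  induction s using Finset.induction_on with
  | empty => simp
  | insert a s ha ih =>
    rw [Finset.sum_insert ha, Finset.filter_insert, Int.odd_add, ← Int.not_odd_iff_even, ih]
    split_ifs with h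
    · rw [Finset.card_insert_of_notMem (fun hm => ha (Finset.mem_of_mem_filter a hm)), Nat.odd_add_one]
      tauto
    · tauto

section Supp

variable {G : Type u} [Group G] [Fintype G]

theorem oddDeg_smul (σ : ℂ ≃+* ℂ) {χ : IrrCharacter G} (h : OddDeg (χ : G → ℂ)) :
    OddDeg ((σ • χ : IrrCharacter G) : G → ℂ) := by
  obtain ⟨d, hd, h1⟩ := h
  exact ⟨d, hd, by rw [smul_apply_one, h1]⟩

theorem exists_odd_supp {ψ : G → ℂ} (hψ : IsGeneralizedCharacter G ψ) (hrat : ∀ g : G, ∃ q : ℚ, ψ g = q)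
    (h1 : classInner ψ 1 = 0) (hodd : ∃ k : ℤ, Odd k ∧ ψ 1 = k) :
    ∃ S : Finset (IrrCharacter G), Odd S.card ∧
      (∀ χ ∈ S, (χ : G → ℂ) ≠ 1 ∧ OddDeg (χ : G → ℂ) ∧ ∃ k : ℤ, Odd k ∧ classInner ψ (χ : G → ℂ) = k) ∧
      (∀ (σ : ℂ ≃+* ℂ), ∀ χ ∈ S, σ • χ ∈ S) ∧
      (∀ n : ℕ, classInner ψ ψ = n → S.card ≤ n ∧ (S.card = n → ∀ χ ∈ S,
        classInner ψ (χ : G → ℂ) = 1 ∨ classInner ψ (χ : G → ℂ) = -1) ∧
        (S.card = n → ψ = ∑ χ ∈ S, classInner ψ (χ : G → ℂ) • (χ : G → ℂ))) := by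
  classical
  have := finite_irr (G := G)
  have := Fintype.ofFinite (IrrCharacter G)
  obtain ⟨m, hm⟩ := isGeneralizedCharacter_iff.1 hψ
  have hdeg : ∀ χ : IrrCharacter G, ∃ d : ℕ, (χ : G → ℂ) 1 = d := fun χ => by
    obtain ⟨d, -, hd⟩ := isIrr_apply_one χ.2
    exact ⟨d, hd⟩
  choose d hd using hdeg
  have hdσ : ∀ (σ : ℂ ≃+* ℂ) (χ : IrrCharacter G), d (σ • χ) = d χ := by
    intro σ χ
    have h := smul_apply_one σ χ
    rw [hd, hd] at h
    exact_mod_cast h
  refine ⟨Finset.univ.filter (fun χ => Odd (m χ) ∧ Odd (d χ)), ?_, ?_, ?_, ?_⟩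
  · -- parity
    obtain ⟨k, hk, hk1⟩ := hodd
    have h2 : k = ∑ χ : IrrCharacter G, m χ * d χ := by
      have h3 : ψ 1 = ((∑ χ : IrrCharacter G, m χ * d χ : ℤ) : ℂ) := by
        conv_lhs => rw [hm]
        rw [Finset.sum_apply]
        push_cast
        refine Finset.sum_congr rfl fun χ _ => ?_
        rw [Pi.smul_apply, zsmul_eq_mul, hd]
      rw [hk1] at h3
      exact_mod_cast h3
    rw [h2, odd_int_sum] at hk
    have h4 : (Finset.univ.filter (fun χ => Odd (m χ) ∧ Odd (d χ))) =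
        Finset.univ.filter (fun χ => Odd (m χ * (d χ : ℤ))) := by
      ext χ
      simp only [Finset.mem_filter, Finset.mem_univ, true_and, Int.odd_mul, Int.odd_coe_nat]
    rw [h4]
    exact hk
  · intro χ hχ
    rw [Finset.mem_filter] at hχ
    obtain ⟨-, h2, h3⟩ := hχ
    refine ⟨?_, ⟨d χ, h3, hd χ⟩, m χ, h2, coeff_eq hm χ⟩
    apply ne_one_of_supp hm h1
    rintro h0
    rw [h0] at h2
    exact absurd h2 (by decide)
  · intro σ χ hχ
    rw [Finset.mem_filter] at hχ ⊢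
    rw [coeff_smul hm hrat, hdσ]
    exact ⟨Finset.mem_univ _, hχ.2⟩
  · intro n hn
    have h2 := sum_sq hm hn
    have hsq : ∀ χ ∈ Finset.univ.filter (fun χ => Odd (m χ) ∧ Odd (d χ)), (1 : ℤ) ≤ m χ ^ 2 := by
      intro χ hχ
      rw [Finset.mem_filter] at hχ
      have h0 : m χ ≠ 0 := by
        rintro h0
        rw [h0] at hχ
        exact absurd hχ.2.1 (by decide)
      have := sq_pos_of_ne_zero h0
      omega
    have h3 : ((Finset.univ.filter (fun χ => Odd (m χ) ∧ Odd (d χ))).card : ℤ) ≤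
        ∑ χ ∈ Finset.univ.filter (fun χ => Odd (m χ) ∧ Odd (d χ)), m χ ^ 2 := by
      have := Finset.card_nsmul_le_sum _ (fun χ => m χ ^ 2) 1 hsq
      simpa using this
    have h4 : ∑ χ ∈ Finset.univ.filter (fun χ => Odd (m χ) ∧ Odd (d χ)), m χ ^ 2 ≤ ∑ χ, m χ ^ 2 :=
      Finset.sum_le_sum_of_subset_of_nonneg (Finset.filter_subset _ _) fun _ _ _ => sq_nonneg _
    have key : (Finset.univ.filter (fun χ => Odd (m χ) ∧ Odd (d χ))).card = n →
        (∀ χ ∈ Finset.univ.filter (fun χ => Odd (m χ) ∧ Odd (d χ)), m χ = 1 ∨ m χ = -1) ∧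
        ∀ χ, χ ∉ Finset.univ.filter (fun χ => Odd (m χ) ∧ Odd (d χ)) → m χ = 0 := by
      intro hc
      have h5 : ∑ χ ∈ Finset.univ.filter (fun χ => Odd (m χ) ∧ Odd (d χ)), m χ ^ 2 = n := by omega
      have h6 : ∑ χ ∈ Finset.univ.filter (fun χ => Odd (m χ) ∧ Odd (d χ)), (m χ ^ 2 - 1) = 0 := by
        rw [Finset.sum_sub_distrib, h5, Finset.sum_const, hc]
        simp
      have h7 := (Finset.sum_eq_zero_iff_of_nonneg (fun χ hχ => by have := hsq χ hχ; omega)).1 h6
      have h8 := Finset.sum_filter_add_sum_filter_not Finset.univ (fun χ => Odd (m χ) ∧ Odd (d χ))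
        (fun χ => m χ ^ 2)
      rw [h5, h2] at h8
      have h9 : ∑ χ ∈ Finset.univ.filter (fun χ => ¬ (Odd (m χ) ∧ Odd (d χ))), m χ ^ 2 = 0 := by omega
      have h10 := (Finset.sum_eq_zero_iff_of_nonneg (fun χ _ => sq_nonneg (m χ))).1 h9
      refine ⟨fun χ hχ => ?_, fun χ hχ => ?_⟩
      · have := h7 χ hχ
        exact sq_eq_one_iff.1 (by omega)
      · have := h10 χ (by
          rw [Finset.mem_filter] at hχ ⊢
          exact ⟨Finset.mem_univ _, fun h => hχ ⟨Finset.mem_univ _, h⟩⟩)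
        exact pow_eq_zero_iff (two_ne_zero) |>.1 this
    refine ⟨by omega, fun hc χ hχ => ?_, fun hc => ?_⟩
    · rw [coeff_eq hm]
      rcases (key hc).1 χ hχ with h | h
      · left; rw [h]; norm_num
      · right; rw [h]; norm_num
    · conv_lhs => rw [hm]
      rw [← Finset.sum_subset (Finset.subset_univ (Finset.univ.filter (fun χ => Odd (m χ) ∧ Odd (d χ))))]
      · refine Finset.sum_congr rfl fun χ _ => ?_
        rw [coeff_eq hm, Int.cast_smul_eq_zsmul]
      · intro χ _ hχ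
        rw [(key hc).2 χ hχ, zero_smul]

/-- **Norm at most two.** -/
theorem ratOdd_of_norm_le_two {ψ : G → ℂ} (hψ : IsGeneralizedCharacter G ψ) (hrat : ∀ g : G, ∃ q : ℚ, ψ g = q)
    (h1 : classInner ψ 1 = 0) (hodd : ∃ k : ℤ, Odd k ∧ ψ 1 = k) {n : ℕ} (hn : classInner ψ ψ = n) (hn2 : n ≤ 2) :
    RatOdd G := by
  obtain ⟨S, hS, hS1, hS2, hS3⟩ := exists_odd_supp hψ hrat h1 hodd
  have h2 := (hS3 n hn).1
  have h3 : S.card = 1 := by
    obtain ⟨k, hk⟩ := hS
    omega
  obtain ⟨χ, rfl⟩ := Finset.card_eq_one.1 h3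
  obtain ⟨h4, h5, -⟩ := hS1 χ (Finset.mem_singleton_self χ)
  exact ratOdd_of_fixed h4 h5 fun σ => Finset.mem_singleton.1 (hS2 σ χ (Finset.mem_singleton_self χ))

/-- A rational-valued generalized character has the same multiplicity in conjugate irreducible characters. -/
theorem classInner_galois_right {Θ : G → ℂ} (hrat : ∀ g : G, ∃ q : ℚ, Θ g = q) (σ : ℂ ≃+* ℂ) (χ : IrrCharacter G) :
    classInner Θ ((σ • χ : IrrCharacter G) : G → ℂ) = σ (classInner Θ (χ : G → ℂ)) := by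
  rw [← GaloisIrr.classInner_map σ (isIrr_isCharacter χ.2)]
  congr 1
  funext g
  obtain ⟨q, hq⟩ := hrat g
  rw [hq, map_ratCast]

/-- **Norm three.** -/
theorem ratOdd_of_norm_three {ψ : G → ℂ} (hψ : IsGeneralizedCharacter G ψ) (hrat : ∀ g : G, ∃ q : ℚ, ψ g = q)
    (h1 : classInner ψ 1 = 0) (hodd : ∃ k : ℤ, Odd k ∧ ψ 1 = k) {n : ℕ} (hn : classInner ψ ψ = n) (hn3 : n ≤ 3)
    {Θ : G → ℂ} (hΘ : IsGeneralizedCharacter G Θ) (hΘr : ∀ g : G, ∃ q : ℚ, Θ g = q)
    (h3 : ∀ k : ℤ, classInner Θ ψ ≠ 3 * k) : RatOdd G := by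
  classical
  by_contra hG
  obtain ⟨S, hS, hS1, hS2, hS3⟩ := exists_odd_supp hψ hrat h1 hodd
  obtain ⟨h2, h2a, h2b⟩ := hS3 n hn
  -- no element is fixed
  have hmove : ∀ χ ∈ S, ∃ σ : ℂ ≃+* ℂ, σ • χ ≠ χ := by
    intro χ hχ
    by_contra hcon
    push Not at hcon
    exact hG (ratOdd_of_fixed (hS1 χ hχ).1 (hS1 χ hχ).2.1 hcon)
  have hcard : S.card = 3 := by
    obtain ⟨k, hk⟩ := hS
    have : S.card ≠ 1 := by
      intro h
      obtain ⟨χ, rfl⟩ := Finset.card_eq_one.1 h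
      obtain ⟨σ, hσ⟩ := hmove χ (Finset.mem_singleton_self χ)
      exact hσ (Finset.mem_singleton.1 (hS2 σ χ (Finset.mem_singleton_self χ)))
    omega
  obtain ⟨a, ha⟩ : S.Nonempty := Finset.card_pos.1 (by omega)
  -- all elements are conjugate to `a`
  have horb : ∀ b ∈ S, ∃ σ : ℂ ≃+* ℂ, σ • a = b := by
    intro b hb
    by_contra hcon
    push Not at hcon
    obtain ⟨σ, hσ⟩ := hmove a ha
    have hba : a ≠ b := by
      have := hcon 1
      rwa [one_smul] at this
    have hS' : S = {a, σ • a, b} := by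
      symm
      apply Finset.eq_of_subset_of_card_le
      · intro x hx
        rw [Finset.mem_insert, Finset.mem_insert, Finset.mem_singleton] at hx
        rcases hx with rfl | rfl | rfl
        · exact ha
        · exact hS2 σ a ha
        · exact hb
      · rw [hcard, Finset.card_insert_of_notMem, Finset.card_insert_of_notMem, Finset.card_singleton]
        · rw [Finset.mem_singleton]
          exact hcon σ
        · rw [Finset.mem_insert, Finset.mem_singleton, not_or]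
          exact ⟨hσ.symm, hba⟩
    obtain ⟨τ, hτ⟩ := hmove b hb
    have h4 := hS2 τ b hb
    rw [hS', Finset.mem_insert, Finset.mem_insert, Finset.mem_singleton] at h4
    rcases h4 with h4 | h4 | h4
    · exact hcon τ⁻¹ (by rw [← h4, inv_smul_smul])
    · exact hcon (τ⁻¹ * σ) (by rw [mul_smul, ← h4, inv_smul_smul])
    · exact hτ h4
  have hn' : S.card = n := by omega
  -- all multiplicities are equal
  have hm : ∀ b ∈ S, classInner ψ (b : G → ℂ) = classInner ψ (a : G → ℂ) := by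
    intro b hb
    obtain ⟨σ, rfl⟩ := horb b hb
    rw [classInner_galois_right hrat]
    rcases h2a hn' a ha with h | h <;> rw [h] <;> simp
  obtain ⟨t, ht⟩ : ∃ t : ℤ, classInner Θ (a : G → ℂ) = t := by
    have := finite_irr (G := G)
    have := Fintype.ofFinite (IrrCharacter G)
    obtain ⟨m, hm⟩ := isGeneralizedCharacter_iff.1 hΘ
    exact ⟨m a, coeff_eq hm a⟩
  have ht' : ∀ b ∈ S, classInner Θ (b : G → ℂ) = t := by
    intro b hb
    obtain ⟨σ, rfl⟩ := horb b hb
    rw [classInner_galois_right hΘr, ht, map_intCast]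
  have h5 : classInner Θ ψ = ∑ b ∈ S, conj (classInner ψ (b : G → ℂ)) * classInner Θ (b : G → ℂ) := by
    conv_lhs => rw [h2b hn']
    rw [classInner_sum_right]
    refine Finset.sum_congr rfl fun b _ => ?_
    rw [classInner_smul_right]
  rw [Finset.sum_congr rfl (fun b hb => by rw [hm b hb, ht' b hb]), Finset.sum_const, hcard] at h5
  rcases h2a hn' a ha with h | h
  · rw [h] at h5
    apply h3 t
    rw [h5]; simp
  · rw [h] at h5
    apply h3 (-t)
    rw [h5]; simp

/-- **Norm three, degree prime to three.** -/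
theorem ratOdd_of_norm_three_degree {ψ : G → ℂ} (hψ : IsGeneralizedCharacter G ψ)
    (hrat : ∀ g : G, ∃ q : ℚ, ψ g = q) (h1 : classInner ψ 1 = 0) {k : ℤ} (hk : Odd k) (hk1 : ψ 1 = k)
    (hk3 : ¬ (3 : ℤ) ∣ k) {n : ℕ} (hn : classInner ψ ψ = n) (hn3 : n ≤ 3) : RatOdd G := by
  classical
  obtain ⟨Θ, hΘ⟩ : ∃ Θ : G → ℂ, Θ = fun g => (Nat.card (fixedBy G g) : ℂ) := ⟨_, rfl⟩
  have hΘc : IsCharacter G Θ := hΘ ▸ S0157.isCharacter_fixedBy G
  have hne : ∀ g : G, g ≠ 1 → Θ g = 0 := by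
    intro g hg
    rw [hΘ]
    have : IsEmpty (fixedBy G g) := ⟨fun x => hg (by
      have h := x.2
      rw [mem_fixedBy, smul_eq_mul, mul_eq_right] at h
      exact h)⟩
    simp
  have hone : Θ 1 = Nat.card G := by
    rw [hΘ]
    have h2 : fixedBy G (1 : G) = Set.univ := by
      ext y; simp
    change (Nat.card (fixedBy G (1 : G)) : ℂ) = _
    rw [h2, Nat.card_univ]
  refine ratOdd_of_norm_three hψ hrat h1 ⟨k, hk, hk1⟩ hn hn3 (Θ := Θ) ?_ ?_ ?_
  · exact ⟨Θ, 0, hΘc, isCharacter_zero, by rw [sub_zero]⟩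
  · intro g
    rw [hΘ]
    exact ⟨(Nat.card (fixedBy G g) : ℚ), by push_cast; rfl⟩
  · intro j hj
    apply hk3
    refine ⟨j, ?_⟩
    have h5 : classInner Θ ψ = ψ 1 := by
      rw [classInner_def, Finset.sum_eq_single 1]
      · rw [hone, ← mul_assoc, inv_mul_cancel₀ (by exact_mod_cast Nat.card_pos.ne'), one_mul, hk1]
        simp
      · intro g _ hg
        rw [hne g hg, zero_mul]
      · intro h; exact absurd (Finset.mem_univ _) h
    rw [h5, hk1] at hj
    exact_mod_cast hj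

/-- **Galois orbits of two-power length.** If the odd-degree constituents of `ψ` are fixed by the power maps of
odd order then one of them is rational-valued. -/
theorem ratOdd_of_pow {ψ : G → ℂ} (hψ : IsGeneralizedCharacter G ψ) (hrat : ∀ g : G, ∃ q : ℚ, ψ g = q)
    (h1 : classInner ψ 1 = 0) (hodd : ∃ k : ℤ, Odd k ∧ ψ 1 = k)
    (hpow : ∀ χ : IrrCharacter G, (χ : G → ℂ) ≠ 1 → OddDeg (χ : G → ℂ) → classInner ψ (χ : G → ℂ) ≠ 0 →
      ∀ k : ℕ, k.Coprime (Nat.card G) → (∃ m : ℕ, Odd m ∧ k ^ m ≡ 1 [MOD Nat.card G]) →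
        ∀ g : G, (χ : G → ℂ) (g ^ k) = (χ : G → ℂ) g) : RatOdd G := by
  classical
  obtain ⟨S, hS, hS1, hS2, -⟩ := exists_odd_supp hψ hrat h1 hodd
  let _ := H707.Block.powAct (G := G)
  have hst : ∀ (u : (ZMod (Nat.card G))ˣ), ∀ χ ∈ S, u • χ ∈ S := by
    intro u χ hχ
    obtain ⟨σ, hσ⟩ := GaloisBasic.exists_ringEquiv_of_coprime (G := G) (ZMod.val_coe_unit_coprime u)
    have h2 : u • χ = σ • χ := by
      apply Subtype.ext
      funext g
      rw [H707.Block.pow_smul_apply, H707.Orbits.smul_apply]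
      exact (hσ _ (isIrr_isCharacter χ.2) g).symm
    rw [h2]
    exact hS2 σ χ hχ
  let _ : MulAction (ZMod (Nat.card G))ˣ S :=
    { smul := fun u χ => ⟨u • χ.1, hst u χ.1 χ.2⟩
      one_smul := fun χ => Subtype.ext (one_smul _ _)
      mul_smul := fun u v χ => Subtype.ext (mul_smul _ _ _) }
  obtain ⟨P⟩ : Nonempty (Sylow 2 (ZMod (Nat.card G))ˣ) := inferInstance
  have hnz : NeZero (Nat.card G) := ⟨Nat.card_pos.ne'⟩
  obtain ⟨a, ha⟩ := P.2.nonempty_fixed_point_of_prime_not_dvd_card (α := S) (by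
    rw [Nat.card_eq_fintype_card, Fintype.card_coe]
    exact fun h => (Nat.not_even_iff_odd.2 hS) (even_iff_two_dvd.2 h))
  obtain ⟨h2, h3, k, hk, hk1⟩ := hS1 a.1 a.2
  have hk0 : classInner ψ (a.1 : G → ℂ) ≠ 0 := by
    rw [hk1]
    rintro h
    have h' : k = 0 := by exact_mod_cast h
    rw [h'] at hk
    exact absurd hk (by decide)
  -- elements of odd order
  have hoddfix : ∀ u : (ZMod (Nat.card G))ˣ, Odd (orderOf u) → u • a.1 = a.1 := by
    intro u hu
    apply Subtype.ext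
    funext g
    rw [H707.Block.pow_smul_apply]
    refine hpow a.1 h2 h3 hk0 _ (ZMod.val_coe_unit_coprime u) ⟨orderOf u, hu, ?_⟩ g
    rw [← ZMod.natCast_eq_natCast_iff]
    push_cast
    rw [ZMod.natCast_zmod_val, ← Units.val_pow_eq_pow_val, pow_orderOf_eq_one, Units.val_one]
  have htwofix : ∀ u : (ZMod (Nat.card G))ˣ, (∃ t : ℕ, orderOf u = 2 ^ t) → u • a.1 = a.1 := by
    rintro u ⟨t, ht⟩
    have hu : u ∈ (P : Subgroup (ZMod (Nat.card G))ˣ) := by
      have h4 : IsPGroup 2 (Subgroup.zpowers u) := IsPGroup.of_card (by rw [Nat.card_zpowers, ht])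
      obtain ⟨Q, hQ⟩ := h4.exists_le_sylow
      have h5 : Q = P := by
        obtain ⟨c, hc⟩ := MulAction.exists_smul_eq (ZMod (Nat.card G))ˣ Q P
        rw [← hc]
        apply Sylow.ext
        rw [Sylow.coe_subgroup_smul]
        exact (Subgroup.Normal.conj_smul_eq_self c _).symm
      rw [← h5]
      exact hQ (Subgroup.mem_zpowers u)
    exact congrArg Subtype.val (ha ⟨u, hu⟩)
  refine ratOdd_of_pow_fixed h2 h3 fun m hm g => ?_
  obtain ⟨u, hu⟩ : ∃ u : (ZMod (Nat.card G))ˣ, u = ZMod.unitOfCoprime m hm := ⟨_, rfl⟩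
  have hfix : u • a.1 = a.1 := by
    obtain ⟨t, r, hr, hn⟩ : ∃ t r : ℕ, Odd r ∧ orderOf u = 2 ^ t * r := by
      obtain ⟨t, r, hr, hn⟩ := Nat.exists_eq_two_pow_mul_odd (orderOf_pos u).ne'
      exact ⟨t, r, hr, hn⟩
    have hcop : (2 ^ t).Coprime r := Nat.Coprime.pow_left _ (Nat.coprime_two_left.2 hr)
    have hA : u ^ (2 ^ t) • a.1 = a.1 := by
      apply hoddfix
      rw [orderOf_pow, hn, Nat.gcd_eq_right (Dvd.intro _ rfl), Nat.mul_div_cancel_left _ (by positivity)]
      exact hr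
    have hB : u ^ r • a.1 = a.1 := by
      apply htwofix
      refine ⟨t, ?_⟩
      rw [orderOf_pow, hn, Nat.gcd_eq_right (Dvd.intro_left _ rfl), Nat.mul_div_cancel _ hr.pos]
    have h6 : u ^ (2 ^ t) ∈ MulAction.stabilizer (ZMod (Nat.card G))ˣ a.1 := hA
    have h7 : u ^ r ∈ MulAction.stabilizer (ZMod (Nat.card G))ˣ a.1 := hB
    have h8 : u ∈ MulAction.stabilizer (ZMod (Nat.card G))ˣ a.1 := by
      have h9 := Nat.gcd_eq_gcd_ab (2 ^ t) r
      rw [Nat.coprime_iff_gcd_eq_one.1 hcop] at h9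
      have h10 : u = (u ^ (2 ^ t)) ^ (Nat.gcdA (2 ^ t) r) * (u ^ r) ^ (Nat.gcdB (2 ^ t) r) := by
        rw [← zpow_natCast, ← zpow_natCast, ← zpow_mul, ← zpow_mul, ← zpow_add, ← h9]
        simp
      rw [h10]
      exact mul_mem (zpow_mem h6 _) (zpow_mem h7 _)
    exact h8
  have h11 := congrFun (congrArg Subtype.val hfix) g
  rw [H707.Block.pow_smul_apply, hu, ZMod.coe_unitOfCoprime, ZMod.val_natCast, pow_mod_natCard] at h11
  exact h11

end Supp

section Perm

/-- **`x ^ k` conjugate to `x` for all `k` of odd order modulo `|G|`.** -/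
theorem ratOdd_of_isConj {G : Type u} [Group G] [Finite G] (heven : Even (Nat.card G))
    (h : ∀ (x : G) (k : ℕ), k.Coprime (Nat.card G) → (∃ m : ℕ, Odd m ∧ k ^ m ≡ 1 [MOD Nat.card G]) →
      IsConj x (x ^ k)) : RatOdd G := by
  classical
  have := Fintype.ofFinite G
  obtain ⟨ψ, hψ⟩ : ∃ ψ : G → ℂ, ψ = fun g => (Nat.card (fixedBy G g) : ℂ) - 1 := ⟨_, rfl⟩
  obtain ⟨h1, h2, h3, -, h5⟩ := H707.Rank.norm_permChar (G := G) G hψ
  refine ratOdd_of_pow h1 h2 h3 ⟨(Nat.card G : ℤ) - 1, ?_, by rw [h5]; push_cast; ring⟩ ?_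
  · obtain ⟨r, hr⟩ := heven
    exact ⟨(r : ℤ) - 1, by push_cast [hr]; ring⟩
  · intro χ _ _ _ k hk hm g
    exact (classFunction_apply_eq (isIrr_isClassFunction χ.2) (h g k hk hm)).symm

variable {G : Type*} [Group G] [Finite G] (X : Type*) [MulAction G X] [Finite X] [IsPretransitive G X]

/-- **Permutation characters of even degree and rank at most three.** -/
theorem ratOdd_of_rank_three [Nonempty X] (heven : Even (Nat.card X))
    (hr : Nat.card (Quotient (orbitRel G (X × X))) ≤ 3) : RatOdd G := by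
  classical
  have := Fintype.ofFinite G
  obtain ⟨ψ, hψ⟩ : ∃ ψ : G → ℂ, ψ = fun g => (Nat.card (fixedBy X g) : ℂ) - 1 := ⟨_, rfl⟩
  obtain ⟨h1, h2, h3, h4, h5⟩ := H707.Rank.norm_permChar (G := G) X hψ
  have hpos : 0 < Nat.card (Quotient (orbitRel G (X × X))) := by
    have : Finite (Quotient (orbitRel G (X × X))) := Quotient.finite _
    have : Nonempty (Quotient (orbitRel G (X × X))) := ⟨Quotient.mk _ (Classical.arbitrary _)⟩
    exact Nat.card_pos
  refine ratOdd_of_norm_le_two h1 h2 h3 ⟨(Nat.card X : ℤ) - 1, ?_, by rw [h5]; push_cast; ring⟩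
    (n := Nat.card (Quotient (orbitRel G (X × X))) - 1) ?_ (by omega)
  · obtain ⟨r, hr⟩ := heven
    exact ⟨(r : ℤ) - 1, by push_cast [hr]; ring⟩
  · rw [h4]
    push_cast [Nat.cast_sub (show 1 ≤ Nat.card (Quotient (orbitRel G (X × X))) from hpos)]
    ring

/-- **Permutation characters of even degree `n` and rank at most four, `3 ∤ n - 1`.** -/
theorem ratOdd_of_rank_four [Nonempty X] (heven : Even (Nat.card X)) (h3 : ¬ 3 ∣ Nat.card X - 1)
    (hr : Nat.card (Quotient (orbitRel G (X × X))) ≤ 4) : RatOdd G := by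
  classical
  have := Fintype.ofFinite G
  obtain ⟨ψ, hψ⟩ : ∃ ψ : G → ℂ, ψ = fun g => (Nat.card (fixedBy X g) : ℂ) - 1 := ⟨_, rfl⟩
  obtain ⟨h1, h2, h3', h4, h5⟩ := H707.Rank.norm_permChar (G := G) X hψ
  have hpos : 0 < Nat.card (Quotient (orbitRel G (X × X))) := by
    have : Finite (Quotient (orbitRel G (X × X))) := Quotient.finite _
    have : Nonempty (Quotient (orbitRel G (X × X))) := ⟨Quotient.mk _ (Classical.arbitrary _)⟩
    exact Nat.card_pos
  have hX : 0 < Nat.card X := Nat.card_pos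
  refine ratOdd_of_norm_three_degree h1 h2 h3' (k := (Nat.card X : ℤ) - 1) ?_ (by rw [h5]; push_cast; ring) ?_
    (n := Nat.card (Quotient (orbitRel G (X × X))) - 1) ?_ (by omega)
  · obtain ⟨r, hr⟩ := heven
    exact ⟨(r : ℤ) - 1, by push_cast [hr]; ring⟩
  · intro hd
    apply h3
    have h6 : ((Nat.card X - 1 : ℕ) : ℤ) = (Nat.card X : ℤ) - 1 := by push_cast [Nat.cast_sub hX]; ring
    rw [← h6] at hd
    exact_mod_cast hd
  · rw [h4]
    push_cast [Nat.cast_sub (show 1 ≤ Nat.card (Quotient (orbitRel G (X × X))) from hpos)]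
    ring

theorem ratOdd_of_two_pretransitive (heven : Even (Nat.card X)) (hX : 2 ≤ Nat.card X)
    (h : IsMultiplyPretransitive G X 2) : RatOdd G := by
  have hne : Nonempty X := by
    rw [← Finite.card_pos_iff]
    omega
  apply ratOdd_of_rank_three X heven
  rw [(S0157.two_pretransitive_iff_card_orbits G X hX).1 h]
  norm_num

/-- The point stabiliser `H` has at most three orbits on a set of even size. -/
theorem ratOdd_of_cover (x : X) (H : Subgroup G) (hH : ∀ g : G, g ∈ H ↔ g • x = x)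
    (c : Fin 3 → X) (hcov : ∀ y : X, ∃ i, y ∈ orbit H (c i)) (heven : Even (Nat.card X)) : RatOdd G := by
  have : Nonempty X := ⟨x⟩
  exact ratOdd_of_rank_three X heven (by rw [H707.Rank.card_orbits_prod x H hH]; exact H707.Rank.card_orbits_le X c hcov)

/-- Rank three of even degree from subdegrees. -/
theorem ratOdd_rank_three (H : Subgroup G) {c₁ c₂ : G ⧸ H} {a b : ℕ} (h1 : (orbit H c₁).ncard = a)
    (h2 : (orbit H c₂).ncard = b) (ha : a ≠ 1) (hb : b ≠ 1) (hab : a ≠ b) (hn : H.index = 1 + a + b)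
    (heven : Even H.index) : RatOdd G :=
  ratOdd_of_rank_three (G ⧸ H) heven (by rw [H707.Rank.card_orbits_three H h1 h2 ha hb hab hn])

end Perm

end Cfsg.Agent.H636.Gow
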