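import Cfsg.Agent.H636.Gow.Par
import Cfsg.Agent.H680.GowLie
import Cfsg.Agent.H680.GowCC
import Cfsg.Agent.H680.GowSz
import Cfsg.Agent.H61.GowPsl
import Cfsg.Agent.H61.GowThree
import Cfsg.Agent.H328.Gow.RowsSpO
import Cfsg.Agent.H328.Gow.RowPsu
import Cfsg.Agent.H710.Gow.PSUOne
import Cfsg.Agent.H619.Gow.GTwo
import Cfsg.Agent.H619.Gow.TwD4
import Cfsg.Agent.H650.GowSix
import Cfsg.Agent.H497.Gow.ESeven
import Cfsg.Agent.H641.Gow.E8
import Cfsg.Agent.H643.Gow.TwEEven
import Cfsg.Agent.H829.GowTwF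
import Cfsg.Agent.H704.Gow.Alt
import Cfsg.Agent.H679.GowM
import Cfsg.Agent.H52.GowRank
import Cfsg.Agent.H52.GowIndexTwo
import Cfsg.Agent.H52.GowFi23
import Cfsg.Agent.H52.GowBM
import Cfsg.Agent.H707.Odd.Th
import Cfsg.Agent.H707.Odd.He
import Cfsg.Agent.H707.Odd.Ly
import Cfsg.Agent.H707.Odd.J1
import Cfsg.Agent.H707.Odd.ON
import Cfsg.Agent.H107.JFourCol.Main
import Cfsg.Agent.H844.Gow.HN
import Cfsg.Agent.H706.Gow.FFour
import Cfsg.Agent.H627.Gow.J3

/-!
# Assembly for S4913: the known simple groups have a nontrivial rational-valued irreducible character of odd degree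
-/

set_option autoImplicit false
open Cfsg

namespace Cfsg.Agent.H636.Gow.Asm

open Cfsg.Agent.H636.Gow

theorem sporadic {K : Type*} [Group K] [Finite K] [IsSimpleGroup K]
    (mcl : Spor.IsoMcL K → RatOdd K) (h : IsSporadicGroup K) : RatOdd K := by
  rcases h with h | h | h | h | h | h | h | h | h | h | h | h | h | h | h | h | h | h | h | h | h | h | h | h | h | h
  · exact H679.GowM.m11 h
  · exact H679.GowM.m12 h
  · exact H679.GowM.m22 h
  · exact H679.GowM.m23 h
  · exact H679.GowM.m24 h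
  · exact H707.Odd.J1.row h
  · exact H52.GowRank.j2 h
  · exact H627.Gow.J3.j3 h
  · exact H107.JFourCol.j4 h
  · exact H52.GowRank.co1 h
  · exact H52.GowRank.co2 h
  · exact H52.GowRank.co3 h
  · exact mcl h
  · exact H52.GowRank.hs h
  · exact H52.GowRank.suz h
  · exact H707.Odd.He.row h
  · exact H52.GowRank.ru h
  · exact H707.Odd.ON.row h
  · exact H707.Odd.Ly.row h
  · exact H52.GowRank.fi22 h
  · exact H52.GowFi23.fi23 h
  · exact H52.GowIndexTwo.fi24 h
  · exact H844.Gow.hn h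
  · exact H707.Odd.Th.row h
  · exact H52.GowBM.b h
  · exact H52.GowBM.m h

theorem lie {K : Type*} [Group K] [Finite K] [IsSimpleGroup K] (tits : Lie.IsoTits K → RatOdd K)
    (h : IsPSL K ∨ IsPSp K ∨ IsPSU K ∨ IsPOmegaOdd K ∨ IsPOmegaPlus K ∨ IsPOmegaMinus K ∨ IsExceptionalLieType K) :
    RatOdd K :=
  H680.GowLie.lie_all (fun F _ _ _ h => H680.GowCC.psl_two F h) (fun F _ _ _ => H61.GowThree.psl_three F)
    (fun F _ _ _ n hn => H61.GowPsl.psl F n hn) (fun F _ _ _ m h1 h2 => H328.Gow.psp F m h1 h2)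
    (fun F _ _ _ m h1 => H328.Gow.oplus F m h1) (fun F _ _ _ m h1 a b h2 => H328.Gow.ominus F m h1 a b h2)
    (fun F _ _ _ n q h1 h2 => H328.Gow.psu F n q h1 h2) (fun F _ _ _ q h1 h2 => H710.Gow.PSUOne.psu_three F q h1 h2)
    (fun F _ _ _ h => H619.Gow.g_two F h) (fun F _ _ _ => H706.Gow.f_four F) (fun F _ _ _ => H650.GowSix.e_six F)
    (fun F _ _ _ => H497.Gow.e_seven F) (fun F _ _ _ => H641.Gow.e_eight F)
    (fun F _ _ _ q h1 h2 => H643.Gow.TwE.tw_e_six F q h1 h2) (fun F _ _ _ q h1 h2 => H619.Gow.tw_d_four F q h1 h2)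
    (fun F _ _ _ m h1 h2 => H829.GowTwF.tw_f_four F m h1 h2) H680.GowSz.sz tits h

theorem known {S : Type*} [Group S] [Finite S] [IsSimpleGroup S] (hna : ¬ ∀ a b : S, a * b = b * a)
    (mcl : Spor.IsoMcL S → RatOdd S) (tits : Lie.IsoTits S → RatOdd S)
    (h : IsKnownSimple' S) : RatOdd S := by
  rcases h with h | h | h | h | h | h | h | h | h | h
  · have hp : Fact (Nat.card S).Prime := ⟨h⟩
    have hc : IsCyclic S := isCyclic_of_prime_card rfl
    exact absurd (fun a b => IsCyclic.isMulCommutative.is_comm.comm a b) hna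
  · exact H704.Gow.alternating h
  · exact lie tits (Or.inl h)
  · exact lie tits (Or.inr (Or.inl h))
  · exact lie tits (Or.inr (Or.inr (Or.inl h)))
  · exact lie tits (Or.inr (Or.inr (Or.inr (Or.inl h))))
  · exact lie tits (Or.inr (Or.inr (Or.inr (Or.inr (Or.inl h)))))
  · exact lie tits (Or.inr (Or.inr (Or.inr (Or.inr (Or.inr (Or.inl h))))))
  · exact lie tits (Or.inr (Or.inr (Or.inr (Or.inr (Or.inr (Or.inr h))))))
  · exact sporadic mcl h

end Cfsg.Agent.H636.Gow.Asm
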