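import Cfsg.Agent.H707.OddLift
import Cfsg.Agent.S0174

/-!
# Gow's conjecture (S4913): rational-valued irreducible characters of odd degree; reduction to simple groups

* `RatOdd G` : `G` has a nontrivial rational-valued irreducible character of odd degree;
* `RatOdd.of_surjective`, `RatOdd.of_equiv`, `RatOdd.of_odd_index`;
* `ratOdd_of_even` : if every nonabelian finite simple group has `RatOdd` then every finite group of even order
  has `RatOdd`.
-/

set_option autoImplicit false

namespace Cfsg.Agent.H636.Gow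

open Cfsg Cfsg.Agent.Characters.Core Cfsg.Agent.Characters Cfsg.Agent.H707.OddLift
open scoped ComplexConjugate

universe u

/-- `G` has a nontrivial rational-valued irreducible character of odd degree. -/
def RatOdd (G : Type*) [Group G] : Prop :=
  ∃ χ : G → ℂ, IsIrrCharacter G χ ∧ χ ≠ 1 ∧ (∃ d : ℕ, Odd d ∧ χ 1 = d) ∧ ∀ g : G, ∃ q : ℚ, χ g = q

theorem RatOdd.hasRat {G : Type*} [Group G] (h : RatOdd G) : HasRat G := by
  obtain ⟨χ, h1, h2, -, h3⟩ := h
  exact ⟨χ, h1, h2, h3⟩

theorem RatOdd.of_surjective {G H : Type*} [Group G] [Group H] (f : G →* H) (hf : Function.Surjective f)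
    (h : RatOdd H) : RatOdd G := by
  obtain ⟨φ, hφ, h1, ⟨d, hd, hd1⟩, hrat⟩ := h
  refine ⟨φ ∘ f, isIrr_comp f hf hφ, ?_, ⟨d, hd, ?_⟩, fun g => hrat (f g)⟩
  · intro h2
    apply h1
    funext x
    obtain ⟨g, rfl⟩ := hf x
    exact congrFun h2 g
  · rw [Function.comp_apply, map_one, hd1]

theorem RatOdd.of_equiv {G H : Type*} [Group G] [Group H] (e : G ≃* H) (h : RatOdd H) : RatOdd G :=
  RatOdd.of_surjective (e : G →* H) e.surjective h

/-- The number of `G`-conjugates of a class function of a normal subgroup divides the index. -/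
theorem card_conj_dvd {G : Type*} [Group G] [Finite G] (N : Subgroup G) (hN : N.Normal) {φ : N → ℂ}
    (hφ : IsClassFunction N φ) :
    Nat.card {ψ : N → ℂ | ∃ g : G, ψ = fun n : N => φ ⟨g * n * g⁻¹, hN.conj_mem n n.2 g⟩} ∣ N.index := by
  classical
  let act : MulAction G (N → ℂ) :=
    { smul := fun g f n => f ⟨g⁻¹ * n * (g⁻¹)⁻¹, hN.conj_mem n n.2 g⁻¹⟩
      one_smul := by
        intro f
        funext n
        change f _ = f n
        congr 1
        apply Subtype.ext
        simp
      mul_smul := by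
        intro a b f
        funext n
        change f _ = f _
        congr 1
        apply Subtype.ext
        simp only
        group }
  have hset : {ψ : N → ℂ | ∃ g : G, ψ = fun n : N => φ ⟨g * n * g⁻¹, hN.conj_mem n n.2 g⟩} =
      MulAction.orbit G φ := by
    ext ψ
    constructor
    · rintro ⟨g, rfl⟩
      refine ⟨g⁻¹, ?_⟩
      funext n
      change φ _ = φ _
      congr 1
      apply Subtype.ext
      simp
    · rintro ⟨g, rfl⟩
      exact ⟨g⁻¹, rfl⟩
  rw [hset, Nat.card_congr (MulAction.orbitEquivQuotientStabilizer G φ)]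
  apply Subgroup.index_dvd_of_le
  intro m hm
  rw [MulAction.mem_stabilizer_iff]
  funext n
  have h1 := hφ n (⟨m, hm⟩ : N)⁻¹
  refine Eq.trans ?_ h1
  change φ _ = φ _
  congr 1

/-- **A rational-valued irreducible character of odd degree of a normal subgroup of odd index lies under one.** -/
theorem exists_ratOdd_over {G : Type*} [Group G] [Fintype G] (N : Subgroup G) [hN : N.Normal] [Fintype N]
    (hodd : Odd N.index) {φ : N → ℂ} (hφ : IsIrrCharacter N φ) (hrat : ∀ n : N, ∃ q : ℚ, φ n = q)
    (hd : ∃ d : ℕ, Odd d ∧ φ 1 = d) :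
    ∃ χ : G → ℂ, IsIrrCharacter G χ ∧ (∀ g : G, ∃ q : ℚ, χ g = q) ∧ (∃ d : ℕ, Odd d ∧ χ 1 = d) ∧
      classInner (fun n : N => χ n) φ ≠ 0 := by
  classical
  obtain ⟨χ, hχ, hχr, hm⟩ := exists_rat_over N hodd hφ hrat
  refine ⟨χ, hχ, hχr, ?_, hm⟩
  have h1 := (H696.OddIndex.indicator_real N hodd hφ (fun n => im_eq_zero_of_rat (hrat n)) ⟨χ, hχ⟩
    (fun g => im_eq_zero_of_rat (hχr g)) hm).2
  have h2 := S0174.result N hN χ hχ φ hφ hm
  have h3 : classInner (fun n : N => χ n) φ = 1 := h1
  rw [h3, one_smul] at h2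
  have hfin : Set.Finite {ψ : N → ℂ | ∃ g : G, ψ = fun n : N => φ ⟨g * n * g⁻¹, hN.conj_mem n n.2 g⟩} := by
    refine Set.Finite.subset (Set.finite_range
      (fun g : G => (fun n : N => φ ⟨g * n * g⁻¹, hN.conj_mem n n.2 g⟩))) ?_
    rintro ψ ⟨g, rfl⟩
    exact ⟨g, rfl⟩
  have h4 := congrFun h2 1
  rw [finsum_mem_eq_finite_toFinset_sum _ hfin, Finset.sum_apply] at h4
  obtain ⟨d, hdo, hd1⟩ := hd
  have h5 : ∀ ψ ∈ hfin.toFinset, ψ (1 : N) = d := by
    intro ψ hψ
    rw [Set.Finite.mem_toFinset] at hψ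
    obtain ⟨g, rfl⟩ := hψ
    rw [← hd1]
    change φ _ = φ _
    congr 1
    apply Subtype.ext
    simp
  rw [Finset.sum_congr rfl h5, Finset.sum_const, nsmul_eq_mul] at h4
  have h6 := card_conj_dvd N hN (isIrr_isClassFunction hφ)
  rw [← Set.ncard_eq_toFinset_card _ hfin, ← Nat.card_coe_set_eq] at h4
  refine ⟨_, (hodd.of_dvd_nat h6).mul hdo, ?_⟩
  rw [Nat.cast_mul]
  exact h4

theorem RatOdd.of_odd_index {G : Type*} [Group G] [Finite G] (N : Subgroup G) [N.Normal]
    (hodd : Odd N.index) (h : RatOdd N) : RatOdd G := by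
  have := Fintype.ofFinite G
  have := Fintype.ofFinite N
  obtain ⟨φ, hφ, h1, hd, hrat⟩ := h
  obtain ⟨χ, hχ, hχr, hχd, hm⟩ := exists_ratOdd_over N hodd hφ hrat hd
  refine ⟨χ, hχ, ?_, hχd, hχr⟩
  rintro rfl
  apply hm
  exact classInner_irr_ne (isIrr_one (G := N)) hφ (Ne.symm h1)

/-- A group of order two. -/
theorem ratOdd_of_card_two {G : Type*} [Group G] (h2 : Nat.card G = 2) : RatOdd G := by
  classical
  have hfin : Finite G := Nat.finite_of_card_ne_zero (by rw [h2]; norm_num)
  have := Fintype.ofFinite G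
  obtain ⟨χ, hχ, h1, h3⟩ := hasRat_of_card_two h2
  refine ⟨χ, hχ, h1, ⟨1, odd_one, ?_⟩, h3⟩
  obtain ⟨n, ρ, hρ, rfl⟩ := hχ
  have : IsMulCommutative G := ⟨⟨fun a b => by
    have : IsCyclic G := isCyclic_of_prime_card (p := 2) h2
    exact (IsCyclic.commGroup (α := G)).mul_comm a b⟩⟩
  have h := Representation.IsIrreducible.finrank_eq_one_of_isMulCommutative ρ
  rw [Representation.char_one, h]

/-- **Reduction to simple groups.** -/
theorem ratOdd_of_even
    (H : ∀ (S : Type u) [Group S] [Finite S] [IsSimpleGroup S], (¬ ∀ a b : S, a * b = b * a) → RatOdd S) :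
    ∀ (n : ℕ) (G : Type u) [Group G] [Finite G], Nat.card G = n → Even n → RatOdd G := by
  intro n
  induction n using Nat.strong_induction_on with
  | _ n ih =>
    intro G _ _ hn heven
    have hpos : 0 < n := hn ▸ Nat.card_pos
    by_cases hs : IsSimpleGroup G
    · by_cases hab : ∀ a b : G, a * b = b * a
      · let _ : CommGroup G := { (inferInstance : Group G) with mul_comm := hab }
        have hp : (Nat.card G).Prime := IsSimpleGroup.prime_card
        apply ratOdd_of_card_two
        rw [← hn] at heven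
        exact hp.even_iff.1 heven
      · exact H G hab
    · have hnt : Nontrivial G := Finite.one_lt_card_iff_nontrivial.1 (by
        rw [hn]
        obtain ⟨k, hk⟩ := heven
        omega)
      have hK : ∃ K : Subgroup G, K.Normal ∧ K ≠ ⊥ ∧ K ≠ ⊤ := by
        by_contra hcon
        push Not at hcon
        exact hs ⟨fun K hK => by
          by_cases h : K = ⊥
          · exact Or.inl h
          · exact Or.inr (hcon K hK h)⟩
      obtain ⟨K, hKn, hK1, hK2⟩ := hK
      have hmul : Nat.card K * K.index = n := by rw [← hn]; exact K.card_mul_index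
      have hcK : 1 < Nat.card K := (Subgroup.one_lt_card_iff_ne_bot K).2 hK1
      have hiK : 1 < K.index := by
        have h0 : K.index ≠ 0 := Subgroup.index_ne_zero_of_finite
        have h1 : K.index ≠ 1 := fun h => hK2 (Subgroup.index_eq_one.1 h)
        omega
      rcases Nat.even_or_odd K.index with h | h
      · have h3 : Nat.card (G ⧸ K) < n := by
          change K.index < n
          rw [← hmul]
          exact lt_mul_of_one_lt_left (by omega) hcK
        exact RatOdd.of_surjective (QuotientGroup.mk' K) (QuotientGroup.mk'_surjective K)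
          (ih _ h3 (G ⧸ K) rfl h)
      · have h3 : Nat.card K < n := by
          rw [← hmul]
          exact lt_mul_of_one_lt_right (by omega) hiK
        refine RatOdd.of_odd_index K h (ih _ h3 K rfl ?_)
        rw [← hmul, Nat.even_mul] at heven
        rcases heven with h4 | h4
        · exact h4
        · exact absurd h4 (Nat.not_even_iff_odd.2 h)

/-- The conclusion of S4913. -/
theorem RatOdd.out {G : Type*} [Group G] (h : RatOdd G) :
    ∃ χ : Cfsg.IrrCharacter G, ¬ ((χ : G → ℂ) = fun _ => (1 : ℂ)) ∧ Odd (Cfsg.charDegree (χ : G → ℂ)) ∧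
      (∀ g : G, ∃ q : ℚ, (χ : G → ℂ) g = (q : ℂ)) := by
  obtain ⟨χ, h1, h2, ⟨d, hd, hd1⟩, h3⟩ := h
  refine ⟨⟨χ, h1⟩, h2, ?_, h3⟩
  change Odd ⌊(χ 1).re⌋₊
  rw [hd1, Complex.natCast_re, Nat.floor_natCast]
  exact hd

end Cfsg.Agent.H636.Gow
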